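import Mathlib
import Cfsg.Agent.Lib.Helper12.KS.Defs

/-!
# S0518 (Helper12.KS project): package [O2] `PkgO2`

One-sided facts on elements of odd order: `W ≤ oddGen G` and `P` has an element of order 3.
-/

set_option autoImplicit false
open Cfsg

namespace Cfsg.Agent.Lib.Helper86.KS

open Cfsg.Agent.Lib.Helper12.KS

universe u

/-- Model fact: every element of the four-group of `S₄` is a product of two elements whose cube
is trivial. -/
theorem mdl_inV_prod_cubes : ∀ s : Equiv.Perm (Fin 4), inV s →
    ∃ a b : Equiv.Perm (Fin 4), a ^ 3 = 1 ∧ b ^ 3 = 1 ∧ s = a * b := by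
  decide +kernel

/-- Model fact: a 3-cycle. -/
theorem mdl_three_cycle : ∃ a : Equiv.Perm (Fin 4), a ^ 3 = 1 ∧ a ≠ 1 := by
  decide +kernel

/-- An element whose cube is trivial has odd order. -/
theorem odd_orderOf_of_pow_three {G : Type u} [Group G] {g : G} (h : g ^ 3 = 1) :
    Odd (orderOf g) := by
  have hd : orderOf g ∣ 3 := orderOf_dvd_of_pow_eq_one h
  rcases (Nat.dvd_prime Nat.prime_three).1 hd with h1 | h1
  · rw [h1]; exact odd_one
  · rw [h1]; decide

/-- [O2] elements of odd order of one side. -/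
theorem pkgO2 : PkgO2.{u} := by
  intro G _ _ P T Q W c h
  obtain ⟨e, -, -, hW, -⟩ := h.ex
  refine ⟨?_, ?_⟩
  · intro x hx
    have hxP : x ∈ P := h.W_le hx
    obtain ⟨hV, h2⟩ := (hW ⟨x, hxP⟩).1 hx
    obtain ⟨a, b, ha, hb, hab⟩ := mdl_inV_prod_cubes _ hV
    have hx' : (⟨x, hxP⟩ : ↥P) = e.symm (a, 1) * e.symm (b, 1) := by
      apply e.injective
      rw [map_mul, e.apply_symm_apply, e.apply_symm_apply]
      exact Prod.ext (by simpa using hab) (by simpa using h2)
    have hmem : ∀ a : Equiv.Perm (Fin 4), a ^ 3 = 1 →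
        ((e.symm (a, 1) : ↥P) : G) ∈ oddGen G := by
      intro a ha
      apply Subgroup.subset_closure
      apply odd_orderOf_of_pow_three
      have : (e.symm (a, 1) : ↥P) ^ 3 = 1 := by
        rw [← map_pow]
        have : ((a, 1) : Mdl) ^ 3 = 1 := Prod.ext (by simpa using ha) (by simp)
        rw [this, map_one]
      have h3 := congrArg (fun y : ↥P => (y : G)) this
      simpa using h3
    have hxG : x = ((e.symm (a, 1) : ↥P) : G) * ((e.symm (b, 1) : ↥P) : G) := by
      have := congrArg (fun y : ↥P => (y : G)) hx'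
      simpa using this
    rw [hxG]
    exact (oddGen G).mul_mem (hmem a ha) (hmem b hb)
  · obtain ⟨a, ha, ha1⟩ := mdl_three_cycle
    refine ⟨((e.symm (a, 1) : ↥P) : G), (e.symm (a, 1)).2, ?_⟩
    haveI : Fact (Nat.Prime 3) := ⟨Nat.prime_three⟩
    apply orderOf_eq_prime
    · have : (e.symm (a, 1) : ↥P) ^ 3 = 1 := by
        rw [← map_pow]
        have : ((a, 1) : Mdl) ^ 3 = 1 := Prod.ext (by simpa using ha) (by simp)
        rw [this, map_one]
      have h3 := congrArg (fun y : ↥P => (y : G)) this
      simpa using h3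
    · intro h1
      have h2 : (e.symm (a, 1) : ↥P) = 1 := Subtype.ext (by simpa using h1)
      have h3 : ((a, 1) : Mdl) = 1 := by
        have := congrArg e h2
        simpa using this
      exact ha1 (congrArg Prod.fst h3)

end Cfsg.Agent.Lib.Helper86.KS
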