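import Mathlib
import Cfsg.Agent.Lib.Helper12.KS.Defs

/-!
# S0518 (Helper12.KS project): package [O3] `PkgO3`

One-sided uniqueness facts: the centre of `P`, the unique normal subgroup of order 4 of `P`,
and `T` is self-normalizing in `P`.
-/

set_option autoImplicit false
open Cfsg

namespace Cfsg.Agent.Lib.Helper86.KS

open Cfsg.Agent.Lib.Helper12.KS

universe u

/-- The central involution of the model. -/
abbrev mdlC : Mdl := (1, Multiplicative.ofAdd 1)

/-- Model fact: the centre of `S₄ × C₂`. -/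
theorem mdl_center : ∀ m : Mdl, (∀ p : Mdl, p * m = m * p) → m = 1 ∨ m = mdlC := by
  decide +kernel

/-- Model fact: the dihedral Sylow 2-subgroup of `S₄` is self-normalizing. -/
theorem mdl_normalizer_inD : ∀ s : Equiv.Perm (Fin 4),
    (∀ t : Equiv.Perm (Fin 4), inD t → inD (s * t * s⁻¹)) → inD s := by
  decide +kernel

/-- Conjugators: the identity and the six transpositions. -/
def mdlL : Finset (Equiv.Perm (Fin 4)) :=
  {1, Equiv.swap 0 1, Equiv.swap 0 2, Equiv.swap 0 3, Equiv.swap 1 2, Equiv.swap 1 3,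
    Equiv.swap 2 3}

/-- Some conjugates of `m` under `S₄`. -/
def mdlConj (m : Mdl) : Finset Mdl :=
  mdlL.image (fun p : Equiv.Perm (Fin 4) => ((p, 1) : Mdl) * m * ((p, 1) : Mdl)⁻¹)

/-- `1`, some conjugates of `m` and their products. -/
def mdlSpan (m : Mdl) : Finset Mdl :=
  insert 1 (mdlConj m ∪ (mdlConj m ×ˢ mdlConj m).image (fun q => q.1 * q.2))

theorem mdl_conj_card : ∀ m : Mdl, ¬ inV m.1 → 5 ≤ (mdlConj m).card := by
  decide +kernel

theorem mdl_span_card : ∀ m : Mdl, inV m.1 → m.1 ≠ 1 → m.2 ≠ 1 → 5 ≤ (mdlSpan m).card := by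
  decide +kernel

theorem mdl_conj_card' : ∀ m : Mdl, inV m.1 → m.1 ≠ 1 →
    5 ≤ (insert mdlC (insert 1 (mdlConj m))).card := by
  decide +kernel

theorem mdl_snd : ∀ m : Mdl, m.1 = 1 → m.2 ≠ 1 → m = mdlC := by
  decide +kernel

/-- [O3] uniqueness facts of one side (uses [O1] for `|W| = 4`). -/
theorem pkgO3 (h1 : PkgO1.{u}) : PkgO3.{u} := by
  intro G _ _ P T Q W c h
  have hb := h1 h
  obtain ⟨e, hT, hQ, hW, hc⟩ := h.ex
  refine ⟨?_, ?_, ?_⟩
  · -- central
    intro z hz hcen
    have hm : ∀ p : Mdl, p * e ⟨z, hz⟩ = e ⟨z, hz⟩ * p := by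
      intro p
      have h2 : e.symm p * ⟨z, hz⟩ = ⟨z, hz⟩ * e.symm p := Subtype.ext (hcen _ (e.symm p).2)
      have h3 := congrArg e h2
      simpa using h3
    rcases mdl_center _ hm with h4 | h4
    · left
      have h5 : (⟨z, hz⟩ : ↥P) = 1 := e.injective (by rw [h4, map_one])
      have h6 := congrArg (fun y : ↥P => (y : G)) h5
      simpa using h6
    · right
      exact (hc ⟨z, hz⟩).2 h4
  · -- four
    intro N hNP hcard hnorm
    classical
    have hf1 : ((e.symm 1 : ↥P) : G) = 1 := by simp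
    have hfmul : ∀ a b : Mdl, ((e.symm (a * b) : ↥P) : G) = (e.symm a : ↥P) * (e.symm b : ↥P) := by
      intro a b; simp
    have hfinv : ∀ a : Mdl, ((e.symm a⁻¹ : ↥P) : G) = ((e.symm a : ↥P) : G)⁻¹ := by
      intro a; simp
    have hfinj : Function.Injective (fun m : Mdl => ((e.symm m : ↥P) : G)) :=
      fun a b hab => e.symm.injective (Subtype.ext hab)
    have hfc : ((e.symm mdlC : ↥P) : G) = c := (hc (e.symm mdlC)).2 (by simp)
    have hN4 : (N : Set G).ncard = 4 := by
      rw [← hcard]; exact (Nat.card_coe_set_eq _).symm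
    have hbound : ∀ S : Finset Mdl, (∀ m ∈ S, ((e.symm m : ↥P) : G) ∈ N) → ¬ (5 ≤ S.card) := by
      intro S hS
      have h2 : ((S.image (fun m : Mdl => ((e.symm m : ↥P) : G)) : Finset G) : Set G) ⊆
          (N : Set G) := by
        intro x hx
        rw [Finset.mem_coe, Finset.mem_image] at hx
        obtain ⟨m, hm, rfl⟩ := hx
        exact hS m hm
      have h3 := Set.ncard_le_ncard h2 (Set.toFinite _)
      rw [Set.ncard_coe_finset, Finset.card_image_of_injective _ hfinj, hN4] at h3
      intro h5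
      exact absurd (le_trans h5 h3) (by norm_num)
    have hconj : ∀ m : Mdl, ((e.symm m : ↥P) : G) ∈ N → ∀ x ∈ mdlConj m,
        ((e.symm x : ↥P) : G) ∈ N := by
      intro m hm x hx
      rw [mdlConj, Finset.mem_image] at hx
      obtain ⟨p, -, rfl⟩ := hx
      rw [hfmul, hfmul, hfinv]
      exact hnorm _ (e.symm _).2 _ hm
    have hspan : ∀ m : Mdl, ((e.symm m : ↥P) : G) ∈ N → ∀ x ∈ mdlSpan m,
        ((e.symm x : ↥P) : G) ∈ N := by
      intro m hm x hx
      rw [mdlSpan, Finset.mem_insert, Finset.mem_union, Finset.mem_image] at hx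
      rcases hx with rfl | hx | ⟨q, hq, rfl⟩
      · rw [hf1]; exact N.one_mem
      · exact hconj m hm x hx
      · rw [Finset.mem_product] at hq
        rw [hfmul]
        exact N.mul_mem (hconj m hm _ hq.1) (hconj m hm _ hq.2)
    -- every element of `N` is `c` or in `W`; a nontrivial element of `N ∩ W` has `inV` image
    have hdata : ∀ n ∈ N, n ≠ 1 → n = c ∨ (n ∈ W ∧ ∃ m : Mdl, ((e.symm m : ↥P) : G) = n ∧
        inV m.1 ∧ m.1 ≠ 1) := by
      intro n hn hn1
      have hfm : ((e.symm (e ⟨n, hNP hn⟩) : ↥P) : G) = n := by simp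
      have hmN : ((e.symm (e ⟨n, hNP hn⟩) : ↥P) : G) ∈ N := by rw [hfm]; exact hn
      by_cases hV : inV (e ⟨n, hNP hn⟩).1
      · by_cases h11 : (e ⟨n, hNP hn⟩).1 = 1
        · by_cases h2 : (e ⟨n, hNP hn⟩).2 = 1
          · exfalso
            apply hn1
            have h0 : e ⟨n, hNP hn⟩ = 1 := Prod.ext h11 h2
            have h5 : (⟨n, hNP hn⟩ : ↥P) = 1 := e.injective (by rw [h0, map_one])
            have h6 := congrArg (fun y : ↥P => (y : G)) h5
            simpa using h6
          · left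
            exact (hc ⟨n, hNP hn⟩).2 (mdl_snd _ h11 h2)
        · by_cases h2 : (e ⟨n, hNP hn⟩).2 = 1
          · right
            exact ⟨(hW ⟨n, hNP hn⟩).2 ⟨hV, h2⟩, e ⟨n, hNP hn⟩, hfm, hV, h11⟩
          · exfalso
            exact hbound _ (hspan _ hmN) (mdl_span_card _ hV h11 h2)
      · exfalso
        exact hbound _ (hconj _ hmN) (mdl_conj_card _ hV)
    -- step 1: `c ∉ N`
    have hcN : c ∉ N := by
      intro hcN
      have hex : ∃ n ∈ N, n ≠ 1 ∧ n ≠ c := by
        by_contra hne
        have h2 : (N : Set G) ⊆ ({1, c} : Set G) := by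
          intro n hn
          by_cases hn1 : n = 1
          · left; exact hn1
          · right
            by_contra hnc
            exact hne ⟨n, hn, hn1, hnc⟩
        have h3 := Set.ncard_le_ncard h2 (Set.toFinite _)
        have h5 : ({1, c} : Set G).ncard ≤ 2 := by
          calc ({1, c} : Set G).ncard ≤ ({c} : Set G).ncard + 1 := Set.ncard_insert_le _ _
            _ = 2 := by rw [Set.ncard_singleton]
        omega
      obtain ⟨n, hn, hn1, hnc⟩ := hex
      rcases hdata n hn hn1 with h0 | ⟨-, m, hfm, hV, h11⟩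
      · exact hnc h0
      · refine hbound (insert mdlC (insert 1 (mdlConj m))) ?_ (mdl_conj_card' m hV h11)
        intro x hx
        rw [Finset.mem_insert, Finset.mem_insert] at hx
        rcases hx with rfl | rfl | hx
        · rw [hfc]; exact hcN
        · rw [hf1]; exact N.one_mem
        · exact hconj m (by rw [hfm]; exact hn) x hx
    -- step 2: `N ≤ W`
    have hle : N ≤ W := by
      intro n hn
      by_cases hn1 : n = 1
      · rw [hn1]; exact W.one_mem
      rcases hdata n hn hn1 with h0 | ⟨hnW, -⟩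
      · exact absurd (h0 ▸ hn) hcN
      · exact hnW
    exact Subgroup.eq_of_le_of_card_ge hle (by rw [hcard, hb.card_W])
  · -- nT
    intro p hp hnorm
    have h0 : ∀ t : Equiv.Perm (Fin 4), inD t → inD ((e ⟨p, hp⟩).1 * t * (e ⟨p, hp⟩).1⁻¹) := by
      intro t ht
      have hx : ((e.symm (t, 1) : ↥P) : G) ∈ T := (hT _).2 (by simpa using ht)
      have h2 := hnorm _ hx
      have h3 := (hT (⟨p, hp⟩ * e.symm (t, 1) * ⟨p, hp⟩⁻¹)).1 (by simpa using h2)
      simpa using h3
    exact (hT ⟨p, hp⟩).2 (mdl_normalizer_inD _ h0)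

end Cfsg.Agent.Lib.Helper86.KS
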