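import Mathlib
import Cfsg.Agent.Lib.Helper12.KS.Defs

/-!
# S0518 (Helper12.KS project): package [O4] `PkgO4`

Every involution of `P` other than `c` lies with `c` in an elementary abelian subgroup of
order 8 of `P`.
-/

set_option autoImplicit false
open Cfsg

namespace Cfsg.Agent.Lib.Helper86.KS

open Cfsg.Agent.Lib.Helper12.KS

universe u

/-- Model fact: the centralizer of an involution outside `V₄ × C₂` has order 8. -/
theorem mdl_cent_card : ∀ m : Mdl, m * m = 1 → ¬ inV m.1 →
    (Finset.univ.filter (fun x : Mdl => x * m = m * x)).card = 8 := by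
  decide +kernel

/-- Model fact: the centralizer of an involution outside `V₄ × C₂` has exponent 2. -/
theorem mdl_cent_sq : ∀ m : Mdl, m * m = 1 → ¬ inV m.1 → ∀ x : Mdl, x * m = m * x → x * x = 1 := by
  decide +kernel

/-- [O4] elementary abelian subgroups of order 8 through an involution (uses [O1] for `Q`). -/
theorem pkgO4 (h1 : PkgO1.{u}) : PkgO4.{u} := by
  intro G _ _ P T Q W c h
  have hb := h1 h
  obtain ⟨e, hT, hQ, hW, hc⟩ := h.ex
  intro u hu huu hu1 huc
  by_cases hV : inV (e ⟨u, hu⟩).1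
  · exact ⟨Q, h.Q_le, hb.card_Q, hb.Q_sq, hb.c_mem_Q, (hQ ⟨u, hu⟩).2 hV⟩
  · have hmm : e ⟨u, hu⟩ * e ⟨u, hu⟩ = 1 := by
      rw [← map_mul]
      have h0 : (⟨u, hu⟩ : ↥P) * ⟨u, hu⟩ = 1 := Subtype.ext huu
      rw [h0, map_one]
    have hfinj : Function.Injective (P.subtype.comp e.symm.toMonoidHom) :=
      P.subtype_injective.comp e.symm.injective
    refine ⟨(Subgroup.centralizer ({e ⟨u, hu⟩} : Set Mdl)).map
      (P.subtype.comp e.symm.toMonoidHom), ?_, ?_, ?_, ?_, ?_⟩
    · rintro _ ⟨x, -, rfl⟩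
      exact (e.symm x).2
    · rw [Subgroup.card_map_of_injective hfinj]
      have h8 := mdl_cent_card _ hmm hV
      have h9 : Nat.card ↥(Subgroup.centralizer ({e ⟨u, hu⟩} : Set Mdl)) =
          Nat.card {x : Mdl // x * e ⟨u, hu⟩ = e ⟨u, hu⟩ * x} :=
        Nat.card_congr (Equiv.subtypeEquivRight
          (fun x => Subgroup.mem_centralizer_singleton_iff))
      rw [h9, Nat.card_eq_fintype_card, Fintype.card_subtype]
      exact h8
    · rintro _ ⟨x, hx, rfl⟩
      have hxm : x * e ⟨u, hu⟩ = e ⟨u, hu⟩ * x := Subgroup.mem_centralizer_singleton_iff.1 hx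
      have h2 := mdl_cent_sq _ hmm hV x hxm
      rw [← map_mul, h2, map_one]
    · refine ⟨(1, Multiplicative.ofAdd 1), ?_, ?_⟩
      · rw [SetLike.mem_coe, Subgroup.mem_centralizer_singleton_iff]
        exact Prod.ext (by simp) (mul_comm _ _)
      · exact (hc (e.symm (1, Multiplicative.ofAdd 1))).2 (by simp)
    · refine ⟨e ⟨u, hu⟩, ?_, ?_⟩
      · rw [SetLike.mem_coe, Subgroup.mem_centralizer_singleton_iff]
      · simp

end Cfsg.Agent.Lib.Helper86.KS
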